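import Cfsg.Agent.H204.L34.Rank

/-!
S5917, type (D), the non-abelian case: two modules `p`, `q` of hermitian matrices (dual to each other) with
`p(1)^[2] = q(1)`, `q(1)^[2] = p(1) + q(1)` do not exist.
-/

set_option autoImplicit false
set_option linter.unusedSimpArgs false

namespace Cfsg.Agent.H927.L34

open Matrix Cfsg.Agent.H691.L34

section herm

variable {F : Type} [Field F]

/-- transposed adjugate -/
def sharp (X : M3 F) : M3 F := (Matrix.adjugate X).transpose

theorem HF_add (h2 : (2 : F) = 0) {X Y : M3 F} (hX : HF X) (hY : HF Y) : HF (X + Y) := by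
  apply Matrix.ext
  intro i j
  have h1 := H204.L34.HF_apply hX i j
  have h3 := H204.L34.HF_apply hY i j
  show (X j i + Y j i) ^ 2 = X i j + Y i j
  rw [← h1, ← h3]
  linear_combination (X j i * Y j i) * h2

theorem HF_zero : HF (0 : M3 F) := by
  apply Matrix.ext
  intro i j
  show (0 : F) ^ 2 = 0
  simp

theorem HF_one : HF (1 : M3 F) := by
  apply Matrix.ext
  intro i j
  show ((1 : M3 F) j i) ^ 2 = (1 : M3 F) i j
  by_cases h : i = j
  · subst h; simp
  · rw [Matrix.one_apply_ne h, Matrix.one_apply_ne (Ne.symm h)]; simp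

theorem sharp_one : sharp (1 : M3 F) = 1 := by
  simp [sharp]

theorem map_sq_adj (h2 : (2 : F) = 0) (X : M3 F) :
    (Matrix.adjugate X).map (fun a => a ^ 2) = Matrix.adjugate (X.map fun a => a ^ 2) := by
  have : CharP F 2 := CharTwo.of_one_ne_zero_of_two_eq_zero one_ne_zero h2
  have h := RingHom.map_adjugate (frobenius F 2) X
  have e : ∀ Y : M3 F, (frobenius F 2).mapMatrix Y = Y.map fun a => a ^ 2 := fun Y => by
    apply Matrix.ext; intro i j
    simp [frobenius_def]
  rw [e, e] at h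
  exact h

theorem HF_sharp (h2 : (2 : F) = 0) {X : M3 F} (hX : HF X) : HF (sharp X) := by
  have h1 : X.map (fun a => a ^ 2) = X.transpose := by
    have := congrArg Matrix.transpose hX
    simpa [ct] using this
  show ((Matrix.adjugate X).transpose.map fun a => a ^ 2).transpose = _
  have h3 : ((Matrix.adjugate X).transpose.map fun a => a ^ 2).transpose =
      (Matrix.adjugate X).map fun a => a ^ 2 := by
    apply Matrix.ext; intro i j; rfl
  rw [h3, map_sq_adj h2, h1, sharp, Matrix.adjugate_transpose]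

theorem sharp_hact (h2 : (2 : F) = 0) (g : G3 F) (X : M3 F) :
    sharp (hact g X) = hact (it g) (sharp X) := by
  unfold sharp hact
  rw [Matrix.adjugate_mul_distrib, Matrix.adjugate_mul_distrib, Matrix.transpose_mul,
    Matrix.transpose_mul]
  have e1 : ((it g : G3 F) : M3 F) = (Matrix.adjugate (g : M3 F)).transpose := by
    show ((g⁻¹ : G3 F) : M3 F).transpose = _
    rw [Matrix.SpecialLinearGroup.coe_inv]
  rw [e1]
  have e2 : ct ((Matrix.adjugate (g : M3 F)).transpose) = (Matrix.adjugate (ct (g : M3 F))).transpose := by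
    have h3 : ct ((Matrix.adjugate (g : M3 F)).transpose) =
        (Matrix.adjugate (g : M3 F)).map fun a => a ^ 2 := by
      apply Matrix.ext; intro i j; rfl
    rw [h3, map_sq_adj h2]
    show _ = (Matrix.adjugate (((g : M3 F).map fun a => a ^ 2).transpose)).transpose
    rw [← Matrix.adjugate_transpose, Matrix.transpose_transpose]
  rw [e2, Matrix.mul_assoc]

theorem sharp_apply (X : M3 F) : sharp X =
    !![X 1 1 * X 2 2 - X 1 2 * X 2 1, -(X 1 0 * X 2 2) + X 1 2 * X 2 0, X 1 0 * X 2 1 - X 1 1 * X 2 0;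
      -(X 0 1 * X 2 2) + X 0 2 * X 2 1, X 0 0 * X 2 2 - X 0 2 * X 2 0, -(X 0 0 * X 2 1) + X 0 1 * X 2 0;
      X 0 1 * X 1 2 - X 0 2 * X 1 1, -(X 0 0 * X 1 2) + X 0 2 * X 1 0, X 0 0 * X 1 1 - X 0 1 * X 1 0] := by
  unfold sharp
  rw [Matrix.adjugate_fin_three]
  apply Matrix.ext; intro i j
  fin_cases i <;> fin_cases j <;> rfl

theorem prod_cube (h2 : (2 : F) = 0) (x u v w x' u' v' w' : F) :
    (x + u + v + w) * (x' + u' + v' + w') + (x + u + v) * (x' + u' + v') +
      (x + u + w) * (x' + u' + w') + (x + v + w) * (x' + v' + w') + (x + u) * (x' + u') +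
      (x + v) * (x' + v') + (x + w) * (x' + w') + x * x' = 0 := by
  linear_combination (4 * x * x' + 2 * x * (u' + v' + w') + 2 * (u + v + w) * x' +
    2 * (u * u' + v * v' + w * w') + (u * v' + u * w' + v * u' + v * w' + w * u' + w * v')) * h2

theorem sharp_00 (h2 : (2 : F) = 0) (X : M3 F) :
    sharp X 0 0 = (X 1 1) * (X 2 2) + (X 1 2) * (X 2 1) := by
  rw [sharp_apply]
  show _ = _
  simp
  try linear_combination (-((X 1 1) * (X 2 2))) * h2
  try linear_combination (-((X 1 2) * (X 2 1))) * h2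

theorem sharp_01 (h2 : (2 : F) = 0) (X : M3 F) :
    sharp X 0 1 = (X 1 0) * (X 2 2) + (X 1 2) * (X 2 0) := by
  rw [sharp_apply]
  show _ = _
  simp
  try linear_combination (-((X 1 0) * (X 2 2))) * h2
  try linear_combination (-((X 1 2) * (X 2 0))) * h2

theorem sharp_02 (h2 : (2 : F) = 0) (X : M3 F) :
    sharp X 0 2 = (X 1 0) * (X 2 1) + (X 1 1) * (X 2 0) := by
  rw [sharp_apply]
  show _ = _
  simp
  try linear_combination (-((X 1 0) * (X 2 1))) * h2
  try linear_combination (-((X 1 1) * (X 2 0))) * h2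

theorem sharp_10 (h2 : (2 : F) = 0) (X : M3 F) :
    sharp X 1 0 = (X 0 1) * (X 2 2) + (X 0 2) * (X 2 1) := by
  rw [sharp_apply]
  show _ = _
  simp
  try linear_combination (-((X 0 1) * (X 2 2))) * h2
  try linear_combination (-((X 0 2) * (X 2 1))) * h2

theorem sharp_11 (h2 : (2 : F) = 0) (X : M3 F) :
    sharp X 1 1 = (X 0 0) * (X 2 2) + (X 0 2) * (X 2 0) := by
  rw [sharp_apply]
  show _ = _
  simp
  try linear_combination (-((X 0 0) * (X 2 2))) * h2
  try linear_combination (-((X 0 2) * (X 2 0))) * h2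

theorem sharp_12 (h2 : (2 : F) = 0) (X : M3 F) :
    sharp X 1 2 = (X 0 0) * (X 2 1) + (X 0 1) * (X 2 0) := by
  rw [sharp_apply]
  show _ = _
  simp
  try linear_combination (-((X 0 0) * (X 2 1))) * h2
  try linear_combination (-((X 0 1) * (X 2 0))) * h2

theorem sharp_20 (h2 : (2 : F) = 0) (X : M3 F) :
    sharp X 2 0 = (X 0 1) * (X 1 2) + (X 0 2) * (X 1 1) := by
  rw [sharp_apply]
  show _ = _
  simp
  try linear_combination (-((X 0 1) * (X 1 2))) * h2
  try linear_combination (-((X 0 2) * (X 1 1))) * h2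

theorem sharp_21 (h2 : (2 : F) = 0) (X : M3 F) :
    sharp X 2 1 = (X 0 0) * (X 1 2) + (X 0 2) * (X 1 0) := by
  rw [sharp_apply]
  show _ = _
  simp
  try linear_combination (-((X 0 0) * (X 1 2))) * h2
  try linear_combination (-((X 0 2) * (X 1 0))) * h2

theorem sharp_22 (h2 : (2 : F) = 0) (X : M3 F) :
    sharp X 2 2 = (X 0 0) * (X 1 1) + (X 0 1) * (X 1 0) := by
  rw [sharp_apply]
  show _ = _
  simp
  try linear_combination (-((X 0 0) * (X 1 1))) * h2
  try linear_combination (-((X 0 1) * (X 1 0))) * h2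

theorem sharp_cube (h2 : (2 : F) = 0) (x u v w : M3 F) :
    sharp (x + u + v + w) + sharp (x + u + v) + sharp (x + u + w) + sharp (x + v + w) +
      sharp (x + u) + sharp (x + v) + sharp (x + w) + sharp x = 0 := by
  apply Matrix.ext; intro i j
  fin_cases i <;> fin_cases j
  · show sharp (x + u + v + w) 0 0 + sharp (x + u + v) 0 0 + sharp (x + u + w) 0 0 +
      sharp (x + v + w) 0 0 + sharp (x + u) 0 0 + sharp (x + v) 0 0 +
      sharp (x + w) 0 0 + sharp x 0 0 = 0
    simp only [sharp_00 h2, Matrix.add_apply]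
    linear_combination prod_cube h2 (x 1 1) (u 1 1) (v 1 1) (w 1 1) (x 2 2) (u 2 2) (v 2 2) (w 2 2) + prod_cube h2 (x 1 2) (u 1 2) (v 1 2) (w 1 2) (x 2 1) (u 2 1) (v 2 1) (w 2 1)
  · show sharp (x + u + v + w) 0 1 + sharp (x + u + v) 0 1 + sharp (x + u + w) 0 1 +
      sharp (x + v + w) 0 1 + sharp (x + u) 0 1 + sharp (x + v) 0 1 +
      sharp (x + w) 0 1 + sharp x 0 1 = 0
    simp only [sharp_01 h2, Matrix.add_apply]
    linear_combination prod_cube h2 (x 1 0) (u 1 0) (v 1 0) (w 1 0) (x 2 2) (u 2 2) (v 2 2) (w 2 2) + prod_cube h2 (x 1 2) (u 1 2) (v 1 2) (w 1 2) (x 2 0) (u 2 0) (v 2 0) (w 2 0)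
  · show sharp (x + u + v + w) 0 2 + sharp (x + u + v) 0 2 + sharp (x + u + w) 0 2 +
      sharp (x + v + w) 0 2 + sharp (x + u) 0 2 + sharp (x + v) 0 2 +
      sharp (x + w) 0 2 + sharp x 0 2 = 0
    simp only [sharp_02 h2, Matrix.add_apply]
    linear_combination prod_cube h2 (x 1 0) (u 1 0) (v 1 0) (w 1 0) (x 2 1) (u 2 1) (v 2 1) (w 2 1) + prod_cube h2 (x 1 1) (u 1 1) (v 1 1) (w 1 1) (x 2 0) (u 2 0) (v 2 0) (w 2 0)
  · show sharp (x + u + v + w) 1 0 + sharp (x + u + v) 1 0 + sharp (x + u + w) 1 0 +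
      sharp (x + v + w) 1 0 + sharp (x + u) 1 0 + sharp (x + v) 1 0 +
      sharp (x + w) 1 0 + sharp x 1 0 = 0
    simp only [sharp_10 h2, Matrix.add_apply]
    linear_combination prod_cube h2 (x 0 1) (u 0 1) (v 0 1) (w 0 1) (x 2 2) (u 2 2) (v 2 2) (w 2 2) + prod_cube h2 (x 0 2) (u 0 2) (v 0 2) (w 0 2) (x 2 1) (u 2 1) (v 2 1) (w 2 1)
  · show sharp (x + u + v + w) 1 1 + sharp (x + u + v) 1 1 + sharp (x + u + w) 1 1 +
      sharp (x + v + w) 1 1 + sharp (x + u) 1 1 + sharp (x + v) 1 1 +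
      sharp (x + w) 1 1 + sharp x 1 1 = 0
    simp only [sharp_11 h2, Matrix.add_apply]
    linear_combination prod_cube h2 (x 0 0) (u 0 0) (v 0 0) (w 0 0) (x 2 2) (u 2 2) (v 2 2) (w 2 2) + prod_cube h2 (x 0 2) (u 0 2) (v 0 2) (w 0 2) (x 2 0) (u 2 0) (v 2 0) (w 2 0)
  · show sharp (x + u + v + w) 1 2 + sharp (x + u + v) 1 2 + sharp (x + u + w) 1 2 +
      sharp (x + v + w) 1 2 + sharp (x + u) 1 2 + sharp (x + v) 1 2 +
      sharp (x + w) 1 2 + sharp x 1 2 = 0
    simp only [sharp_12 h2, Matrix.add_apply]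
    linear_combination prod_cube h2 (x 0 0) (u 0 0) (v 0 0) (w 0 0) (x 2 1) (u 2 1) (v 2 1) (w 2 1) + prod_cube h2 (x 0 1) (u 0 1) (v 0 1) (w 0 1) (x 2 0) (u 2 0) (v 2 0) (w 2 0)
  · show sharp (x + u + v + w) 2 0 + sharp (x + u + v) 2 0 + sharp (x + u + w) 2 0 +
      sharp (x + v + w) 2 0 + sharp (x + u) 2 0 + sharp (x + v) 2 0 +
      sharp (x + w) 2 0 + sharp x 2 0 = 0
    simp only [sharp_20 h2, Matrix.add_apply]
    linear_combination prod_cube h2 (x 0 1) (u 0 1) (v 0 1) (w 0 1) (x 1 2) (u 1 2) (v 1 2) (w 1 2) + prod_cube h2 (x 0 2) (u 0 2) (v 0 2) (w 0 2) (x 1 1) (u 1 1) (v 1 1) (w 1 1)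
  · show sharp (x + u + v + w) 2 1 + sharp (x + u + v) 2 1 + sharp (x + u + w) 2 1 +
      sharp (x + v + w) 2 1 + sharp (x + u) 2 1 + sharp (x + v) 2 1 +
      sharp (x + w) 2 1 + sharp x 2 1 = 0
    simp only [sharp_21 h2, Matrix.add_apply]
    linear_combination prod_cube h2 (x 0 0) (u 0 0) (v 0 0) (w 0 0) (x 1 2) (u 1 2) (v 1 2) (w 1 2) + prod_cube h2 (x 0 2) (u 0 2) (v 0 2) (w 0 2) (x 1 0) (u 1 0) (v 1 0) (w 1 0)
  · show sharp (x + u + v + w) 2 2 + sharp (x + u + v) 2 2 + sharp (x + u + w) 2 2 +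
      sharp (x + v + w) 2 2 + sharp (x + u) 2 2 + sharp (x + v) 2 2 +
      sharp (x + w) 2 2 + sharp x 2 2 = 0
    simp only [sharp_22 h2, Matrix.add_apply]
    linear_combination prod_cube h2 (x 0 0) (u 0 0) (v 0 0) (w 0 0) (x 1 1) (u 1 1) (v 1 1) (w 1 1) + prod_cube h2 (x 0 1) (u 0 1) (v 0 1) (w 0 1) (x 1 0) (u 1 0) (v 1 0) (w 1 0)

theorem it_it (g : G3 F) : it (it g) = g := by
  apply Subtype.ext
  show (((it g)⁻¹ : G3 F) : M3 F).transpose = _
  have h : ((it g)⁻¹ : G3 F) = it (g⁻¹) := (map_inv it g).symm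
  rw [h]
  show (((g⁻¹)⁻¹ : G3 F) : M3 F).transpose.transpose = _
  rw [inv_inv, Matrix.transpose_transpose]

theorem tw_tw (b : Bool) (g : G3 F) : tw b (tw b g) = g := by
  cases b
  · rfl
  · exact it_it g

theorem it_tw (b : Bool) (g : G3 F) : it (tw b g) = tw (!b) g := by
  cases b
  · rfl
  · exact it_it g

theorem rank_of_det {X : M3 F} (h : X.det ≠ 0) : X.rank = 3 := by
  have hu : IsUnit X := (Matrix.isUnit_iff_isUnit_det X).2 (isUnit_iff_ne_zero.2 h)
  rw [Matrix.rank_of_isUnit X hu]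
  simp

theorem exists_conj [Fintype F] (hF : Fintype.card F = 4) (b : Bool) {X : M3 F} (hX : HF X)
    (h : X.det ≠ 0) : ∃ g : G3 F, hact (tw b g) 1 = X := by
  obtain ⟨g, hg⟩ := H204.L34.rank_equiv hF (HF_one (F := F)) hX
    ((rank_of_det (by rw [Matrix.det_one]; exact one_ne_zero)).trans (rank_of_det h).symm)
  exact ⟨tw b g, by rw [tw_tw]; exact hg⟩

/-- off-diagonal hermitian matrices -/
def o01 (d : F) : M3 F := !![0, d, 0; d ^ 2, 0, 0; 0, 0, 0]
def o02 (d : F) : M3 F := !![0, 0, d; 0, 0, 0; d ^ 2, 0, 0]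
def o12 (d : F) : M3 F := !![0, 0, 0; 0, 0, d; 0, d ^ 2, 0]
def e00 : M3 F := !![1, 0, 0; 0, 0, 0; 0, 0, 0]
def e11 : M3 F := !![0, 0, 0; 0, 1, 0; 0, 0, 0]
def e22 : M3 F := !![0, 0, 0; 0, 0, 0; 0, 0, 1]

theorem HF_lit (h4 : ∀ x : F, x ^ 4 = x) {a b c x y z : F} (ha : a ^ 2 = a) (hb : b ^ 2 = b) (hc : c ^ 2 = c) :
    HF (!![a, x, y; x ^ 2, b, z; y ^ 2, z ^ 2, c] : M3 F) := by
  have hx : (x ^ 2) ^ 2 = x := by rw [← pow_mul]; exact h4 x
  have hy : (y ^ 2) ^ 2 = y := by rw [← pow_mul]; exact h4 y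
  have hz : (z ^ 2) ^ 2 = z := by rw [← pow_mul]; exact h4 z
  apply Matrix.ext; intro i j
  fin_cases i <;> fin_cases j <;> simp [ct, ha, hb, hc, hx, hy, hz]

theorem HF_o01 (h4 : ∀ x : F, x ^ 4 = x) (d : F) : HF (o01 d) := by
  have := HF_lit h4 (a := 0) (b := 0) (c := 0) (x := d) (y := 0) (z := 0) (by simp) (by simp) (by simp)
  simpa [o01] using this
theorem HF_o02 (h4 : ∀ x : F, x ^ 4 = x) (d : F) : HF (o02 d) := by
  have := HF_lit h4 (a := 0) (b := 0) (c := 0) (x := 0) (y := d) (z := 0) (by simp) (by simp) (by simp)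
  simpa [o02] using this
theorem HF_o12 (h4 : ∀ x : F, x ^ 4 = x) (d : F) : HF (o12 d) := by
  have := HF_lit h4 (a := 0) (b := 0) (c := 0) (x := 0) (y := 0) (z := d) (by simp) (by simp) (by simp)
  simpa [o12] using this
theorem HF_e00 (h4 : ∀ x : F, x ^ 4 = x) : HF (e00 : M3 F) := by
  have := HF_lit h4 (a := 1) (b := 0) (c := 0) (x := 0) (y := 0) (z := 0) (by simp) (by simp) (by simp)
  simpa [e00] using this
theorem HF_e11 (h4 : ∀ x : F, x ^ 4 = x) : HF (e11 : M3 F) := by
  have := HF_lit h4 (a := 0) (b := 1) (c := 0) (x := 0) (y := 0) (z := 0) (by simp) (by simp) (by simp)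
  simpa [e11] using this
theorem HF_e22 (h4 : ∀ x : F, x ^ 4 = x) : HF (e22 : M3 F) := by
  have := HF_lit h4 (a := 0) (b := 0) (c := 1) (x := 0) (y := 0) (z := 0) (by simp) (by simp) (by simp)
  simpa [e22] using this
/-- the three translation matrices -/
def wA : M3 F := !![1, 1, 0; 1, 0, 0; 0, 0, 1]
def wB : M3 F := !![0, 1, 0; 1, 1, 0; 0, 0, 1]
def wC : M3 F := !![0, 0, 0; 0, 1, 1; 0, 1, 0]
def wD : M3 F := !![1, 0, 0; 0, 0, 0; 0, 0, 1]
theorem HF_wA (h4 : ∀ x : F, x ^ 4 = x) : HF (wA : M3 F) := by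
  have := HF_lit h4 (a := 1) (b := 0) (c := 1) (x := 1) (y := 0) (z := 0) (by simp) (by simp) (by simp)
  simpa [wA] using this
theorem HF_wB (h4 : ∀ x : F, x ^ 4 = x) : HF (wB : M3 F) := by
  have := HF_lit h4 (a := 0) (b := 1) (c := 1) (x := 1) (y := 0) (z := 0) (by simp) (by simp) (by simp)
  simpa [wB] using this
theorem HF_wC (h4 : ∀ x : F, x ^ 4 = x) : HF (wC : M3 F) := by
  have := HF_lit h4 (a := 0) (b := 1) (c := 0) (x := 0) (y := 0) (z := 1) (by simp) (by simp) (by simp)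
  simpa [wC] using this
theorem HF_wD (h4 : ∀ x : F, x ^ 4 = x) : HF (wD : M3 F) := by
  have := HF_lit h4 (a := 1) (b := 0) (c := 1) (x := 0) (y := 0) (z := 0) (by simp) (by simp) (by simp)
  simpa [wD] using this

theorem o01_add (h2 : (2 : F) = 0) (d e : F) : o01 (d + e) = o01 d + o01 e := by
  have k : (d + e) ^ 2 = d ^ 2 + e ^ 2 := by linear_combination (d * e) * h2
  apply Matrix.ext; intro i j
  fin_cases i <;> fin_cases j <;> simp [o01, k]
theorem o02_add (h2 : (2 : F) = 0) (d e : F) : o02 (d + e) = o02 d + o02 e := by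
  have k : (d + e) ^ 2 = d ^ 2 + e ^ 2 := by linear_combination (d * e) * h2
  apply Matrix.ext; intro i j
  fin_cases i <;> fin_cases j <;> simp [o02, k]
theorem o12_add (h2 : (2 : F) = 0) (d e : F) : o12 (d + e) = o12 d + o12 e := by
  have k : (d + e) ^ 2 = d ^ 2 + e ^ 2 := by linear_combination (d * e) * h2
  apply Matrix.ext; intro i j
  fin_cases i <;> fin_cases j <;> simp [o12, k]

theorem dA0 (d : F) (hd : d ≠ 0) : (e00 + o12 d).det ≠ 0 := by
  rw [Matrix.det_fin_three]; simp [e00, o12, hd]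
theorem dA1 (h2 : (2 : F) = 0) (d : F) : (e00 + wA + o12 d).det ≠ 0 := by
  have : (e00 + wA + o12 d).det = 1 := by
    rw [Matrix.det_fin_three]; simp [e00, wA, o12]
    linear_combination (-(d ^ 3) - 1) * h2
  rw [this]; exact one_ne_zero
theorem dB0 (d : F) (hd : d ≠ 0) : (e11 + o02 d).det ≠ 0 := by
  rw [Matrix.det_fin_three]; simp [e11, o02, hd]
theorem dB1 (h2 : (2 : F) = 0) (d : F) : (e11 + wB + o02 d).det ≠ 0 := by
  have : (e11 + wB + o02 d).det = 1 := by
    rw [Matrix.det_fin_three]; simp [e11, wB, o02]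
    linear_combination (-(d ^ 3) - 1) * h2
  rw [this]; exact one_ne_zero
theorem dC0 (d : F) (hd : d ≠ 0) : (e00 + e11 + o02 d).det ≠ 0 := by
  rw [Matrix.det_fin_three]; simp [e00, e11, o02, hd]
theorem dC1 (h2 : (2 : F) = 0) (d : F) : (e00 + e11 + wC + o02 d).det ≠ 0 := by
  have : (e00 + e11 + wC + o02 d).det = 1 := by
    rw [Matrix.det_fin_three]; simp [e00, e11, wC, o02]
    linear_combination (-(d ^ 3) - 1) * h2
  rw [this]; exact one_ne_zero
theorem dD0 (c d : F) (hd : d ≠ 0) : (e22 + o12 c + o01 d).det ≠ 0 := by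
  rw [Matrix.det_fin_three]; simp [e22, o12, o01, hd]
theorem dD1 (h2 : (2 : F) = 0) (c d : F) (hc : c ^ 3 = 1) : (e22 + o12 c + wD + o01 d).det ≠ 0 := by
  have : (e22 + o12 c + wD + o01 d).det = 1 := by
    rw [Matrix.det_fin_three]; simp [e22, wD, o12, o01]
    linear_combination (-(d ^ 3) - 1) * h2 - hc
  rw [this]; exact one_ne_zero

theorem sharp_e00 : sharp (e00 : M3 F) = 0 := by
  rw [sharp_apply]; apply Matrix.ext; intro i j
  fin_cases i <;> fin_cases j <;> simp [e00]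
theorem sharp_e11 : sharp (e11 : M3 F) = 0 := by
  rw [sharp_apply]; apply Matrix.ext; intro i j
  fin_cases i <;> fin_cases j <;> simp [e11]
theorem sharp_e01 : sharp (e00 + e11 : M3 F) = e22 := by
  rw [sharp_apply]; apply Matrix.ext; intro i j
  fin_cases i <;> fin_cases j <;> simp [e00, e11, e22]
theorem sharp_Y (h2 : (2 : F) = 0) (c : F) (hc : c ^ 3 = 1) : sharp (e22 + o12 c : M3 F) = e00 := by
  have h1 : -(c * c ^ 2) = 1 := by linear_combination -hc - h2
  rw [sharp_apply]; apply Matrix.ext; intro i j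
  fin_cases i <;> fin_cases j <;> simp [e00, o12, e22, h1]

end herm

section kill

variable {F : Type} [Field F] {V : Type} [AddCommGroup V] [Module (ZMod 2) V]
  {ρ : Representation (ZMod 2) (G3 F) V}

/-- a restricted Lie algebra over `ZMod 2` with an action -/
structure Res (ρ : Representation (ZMod 2) (G3 F) V) (br : V → V → V) (sq : V → V) : Prop where
  addl : ∀ x y z, br (x + y) z = br x z + br y z
  addr : ∀ x y z, br x (y + z) = br x y + br x z
  comm : ∀ x y, br x y = br y x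
  sq_add : ∀ x y, sq (x + y) = sq x + sq y + br x y
  sq_br : ∀ x y, br (sq x) y = br x (br x y)
  sq_eq : ∀ g x, ρ g (sq x) = sq (ρ g x)

theorem add_self (x : V) : x + x = 0 := by
  have h : (2 : ZMod 2) • x = 0 := by
    rw [show (2 : ZMod 2) = 0 from rfl, zero_smul]
  rwa [two_smul] at h

omit [Module (ZMod 2) V] in
theorem eq_add_of (h : ∀ x : V, x + x = 0) {x y : V} (e : x + y = 0) : x = y := by
  have : x + y = y + y := by rw [e, h]
  exact add_right_cancel this

theorem eq_add' {x y : V} (e : x + y = 0) : x = y := eq_add_of add_self e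

theorem exists_omega [Fintype F] (hF : Fintype.card F = 4) : ∃ ω : F, ω ≠ 0 ∧ ω ≠ 1 := by
  classical
  by_contra hcon
  push Not at hcon
  have : Fintype.card F ≤ 2 := by
    have hs : (Finset.univ : Finset F) ⊆ {0, 1} := by
      intro a _
      by_cases ha : a = 0
      · simp [ha]
      · simp [hcon a ha]
    exact (Finset.card_le_card hs).trans Finset.card_le_two
  omega

omit [Module (ZMod 2) V] in
/-- the cube lemma: a quadratic map vanishing on the nondegenerate matrices of a cube -/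
theorem cube [Fintype F] (hF : Fintype.card F = 4) (h2 : (2 : F) = 0) (f : M3 F → V)
    (hf : ∀ x u v w, HF x → HF u → HF v → HF w → f (x + u + v + w) + f (x + u + v) + f (x + u + w) +
      f (x + v + w) + f (x + u) + f (x + v) + f (x + w) + f x = 0)
    (hv : ∀ X, HF X → X.det ≠ 0 → f X = 0) (x w : M3 F) (o : F → M3 F) (hx : HF x) (hw : HF w)
    (ho : ∀ d, HF (o d)) (hoa : ∀ d e, o (d + e) = o d + o e)
    (h0 : ∀ d : F, d ≠ 0 → (x + o d).det ≠ 0) (h1 : ∀ d, (x + w + o d).det ≠ 0) : f x = 0 := by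
  obtain ⟨ω, hω0, hω1⟩ := exists_omega hF
  have hsum : (1 : F) + ω ≠ 0 := by
    intro h
    apply hω1
    linear_combination h - h2
  have oo : o 0 = 0 := by
    have := hoa 0 0
    rw [add_zero] at this
    exact left_eq_add.mp this
  have H := hf x (o 1) (o ω) w hx (ho 1) (ho ω) hw
  have k1 : ∀ d : F, d ≠ 0 → f (x + o d) = 0 := fun d hd => hv _ (HF_add h2 hx (ho d)) (h0 d hd)
  have k2 : ∀ d : F, f (x + w + o d) = 0 := fun d => hv _ (HF_add h2 (HF_add h2 hx hw) (ho d)) (h1 d)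
  have a1 : x + o 1 + o ω + w = x + w + o (1 + ω) := by rw [hoa]; abel
  have a2 : x + o 1 + o ω = x + o (1 + ω) := by rw [hoa]; abel
  have a3 : x + o 1 + w = x + w + o 1 := by abel
  have a4 : x + o ω + w = x + w + o ω := by abel
  have a5 : f (x + w) = 0 := by
    have := k2 0
    rwa [oo, add_zero] at this
  rw [a1, a2, a3, a4, a5, k2, k2, k2, k1 _ hsum, k1 1 one_ne_zero, k1 ω hω0] at H
  simpa using H

theorem Res.sq_zero {br : V → V → V} {sq : V → V} (h : Res ρ br sq) : sq 0 = 0 ∧ ∀ x, br x x = 0 := by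
  have b0 : br 0 0 = 0 := by
    have := h.addl 0 0 0
    rw [add_zero] at this
    exact left_eq_add.mp this
  have s0 : sq 0 = 0 := by
    have := h.sq_add 0 0
    rw [add_zero, add_self, zero_add, b0] at this
    exact this
  refine ⟨s0, fun x => ?_⟩
  have := h.sq_add x x
  rw [add_self, add_self, zero_add, s0] at this
  exact this.symm

theorem Res.sq_cube {br : V → V → V} {sq : V → V} (h : Res ρ br sq) (a u v w : V) :
    sq (a + u + v + w) + sq (a + u + v) + sq (a + u + w) + sq (a + v + w) + sq (a + u) + sq (a + v) +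
      sq (a + w) + sq a = 0 := by
  have c2 : ∀ x y : V, x + (x + y) = y := fun x y => by rw [← add_assoc, add_self, zero_add]
  simp only [h.sq_add, h.addl]
  simp only [add_assoc, add_comm, add_left_comm, add_self, c2, add_zero, zero_add]

theorem kill [Fintype F] (hF : Fintype.card F = 4) (h2 : (2 : F) = 0) (h3 : ∀ x : F, x ≠ 0 → x ^ 3 = 1)
    {br : V → V → V} {sq : V → V} (h : Res ρ br sq) (b : Bool)
    (p q : M3 F → V) (hp : ∀ X Y, HF X → HF Y → p (X + Y) = p X + p Y) (hp0 : ∀ X, HF X → p X = 0 → X = 0)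
    (hpe : ∀ (g : G3 F) X, HF X → ρ g (p X) = p (hact (tw b g) X))
    (hq : ∀ X Y, HF X → HF Y → q (X + Y) = q X + q Y)
    (hqe : ∀ (g : G3 F) X, HF X → ρ g (q X) = q (hact (tw (!b) g) X))
    (h1 : sq (p 1) = q 1) (h1' : sq (q 1) = p 1 + q 1) : False := by
  have h4 : ∀ x : F, x ^ 4 = x := by
    intro x
    by_cases hx : x = 0
    · simp [hx]
    · rw [pow_succ, h3 x hx, one_mul]
  have c2 : ∀ x y : V, x + (x + y) = y := fun x y => by rw [← add_assoc, add_self, zero_add]
  have z : ∀ r : M3 F → V, (∀ X Y, HF X → HF Y → r (X + Y) = r X + r Y) → r 0 = 0 := by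
    intro r hr
    have := hr 0 0 HF_zero HF_zero
    rw [add_zero] at this
    exact left_eq_add.mp this
  -- the sum of eight
  have sum8 : ∀ r : M3 F → V, (∀ X Y, HF X → HF Y → r (X + Y) = r X + r Y) → ∀ x u v w : M3 F, HF x → HF u →
      HF v → HF w → r (sharp (x + u + v + w)) + r (sharp (x + u + v)) + r (sharp (x + u + w)) +
      r (sharp (x + v + w)) + r (sharp (x + u)) + r (sharp (x + v)) + r (sharp (x + w)) + r (sharp x) = 0 := by
    intro r hr x u v w hx hu hv hw
    have A := fun {X Y : M3 F} (h : HF X) (h' : HF Y) => HF_add h2 h h'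
    have s1 := HF_sharp h2 (A (A (A hx hu) hv) hw)
    have s2 := HF_sharp h2 (A (A hx hu) hv)
    have s3 := HF_sharp h2 (A (A hx hu) hw)
    have s4 := HF_sharp h2 (A (A hx hv) hw)
    have s5 := HF_sharp h2 (A hx hu)
    have s6 := HF_sharp h2 (A hx hv)
    have s7 := HF_sharp h2 (A hx hw)
    have s8 := HF_sharp h2 hx
    rw [← hr _ _ s1 s2, ← hr _ _ (A s1 s2) s3, ← hr _ _ (A (A s1 s2) s3) s4,
      ← hr _ _ (A (A (A s1 s2) s3) s4) s5, ← hr _ _ (A (A (A (A s1 s2) s3) s4) s5) s6,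
      ← hr _ _ (A (A (A (A (A s1 s2) s3) s4) s5) s6) s7,
      ← hr _ _ (A (A (A (A (A (A s1 s2) s3) s4) s5) s6) s7) s8, sharp_cube h2, z r hr]
  -- cubes for `sq ∘ r`
  have sqc : ∀ r : M3 F → V, (∀ X Y, HF X → HF Y → r (X + Y) = r X + r Y) → ∀ x u v w : M3 F, HF x → HF u →
      HF v → HF w → sq (r (x + u + v + w)) + sq (r (x + u + v)) + sq (r (x + u + w)) +
      sq (r (x + v + w)) + sq (r (x + u)) + sq (r (x + v)) + sq (r (x + w)) + sq (r x) = 0 := by
    intro r hr x u v w hx hu hv hw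
    have A := fun {X Y : M3 F} (h : HF X) (h' : HF Y) => HF_add h2 h h'
    rw [hr _ _ (A (A hx hu) hv) hw, hr _ _ (A hx hu) hv, hr _ _ hx hu, hr _ _ (A hx hu) hw,
      hr _ _ (A hx hv) hw, hr _ _ hx hv, hr _ _ hx hw, hr _ _ hx hu]
    exact h.sq_cube _ _ _ _
  have lin : ∀ r : M3 F → V, (∀ X Y, HF X → HF Y → r (X + Y) = r X + r Y) → ∀ x u v w : M3 F, HF x → HF u →
      HF v → HF w → r (x + u + v + w) + r (x + u + v) + r (x + u + w) +
      r (x + v + w) + r (x + u) + r (x + v) + r (x + w) + r x = 0 := by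
    intro r hr x u v w hx hu hv hw
    have A := fun {X Y : M3 F} (h : HF X) (h' : HF Y) => HF_add h2 h h'
    rw [hr _ _ (A (A hx hu) hv) hw, hr _ _ (A hx hu) hv, hr _ _ hx hu, hr _ _ (A hx hu) hw,
      hr _ _ (A hx hv) hw, hr _ _ hx hv, hr _ _ hx hw, hr _ _ hx hu]
    simp only [add_assoc, add_comm, add_left_comm, add_self, c2, add_zero, zero_add]
  have f1v : ∀ X, HF X → X.det ≠ 0 → sq (p X) + q (sharp X) = 0 := by
    intro X hX hd
    obtain ⟨g, hg⟩ := exists_conj hF b hX hd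
    rw [← hg, ← hpe g 1 HF_one, ← h.sq_eq, h1, hqe g 1 HF_one, sharp_hact h2, sharp_one, it_tw, add_self]
  have f2v : ∀ X, HF X → X.det ≠ 0 → sq (q X) + p (sharp X) + q X = 0 := by
    intro X hX hd
    obtain ⟨g, hg⟩ := exists_conj hF (!b) hX hd
    rw [← hg, ← hqe g 1 HF_one, ← h.sq_eq, h1', map_add, hpe g 1 HF_one, hqe g 1 HF_one, sharp_hact h2,
      sharp_one, it_tw, Bool.not_not]
    simp only [add_assoc, add_comm, add_left_comm, add_self, c2, add_zero, zero_add]
  have f1c := fun x u v w hx hu hv hw => show (sq (p (x + u + v + w)) + q (sharp (x + u + v + w))) +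
      (sq (p (x + u + v)) + q (sharp (x + u + v))) + (sq (p (x + u + w)) + q (sharp (x + u + w))) +
      (sq (p (x + v + w)) + q (sharp (x + v + w))) + (sq (p (x + u)) + q (sharp (x + u))) +
      (sq (p (x + v)) + q (sharp (x + v))) + (sq (p (x + w)) + q (sharp (x + w))) + (sq (p x) + q (sharp x)) = 0
    from by
      have e1 := sqc p hp x u v w hx hu hv hw
      have e2 := sum8 q hq x u v w hx hu hv hw
      calc _ = (sq (p (x + u + v + w)) + sq (p (x + u + v)) + sq (p (x + u + w)) +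
        sq (p (x + v + w)) + sq (p (x + u)) + sq (p (x + v)) + sq (p (x + w)) + sq (p x)) +
        (q (sharp (x + u + v + w)) + q (sharp (x + u + v)) + q (sharp (x + u + w)) +
        q (sharp (x + v + w)) + q (sharp (x + u)) + q (sharp (x + v)) + q (sharp (x + w)) + q (sharp x)) := by abel
      _ = 0 := by rw [e1, e2, add_zero]
  have f2c := fun x u v w hx hu hv hw => show (sq (q (x + u + v + w)) + p (sharp (x + u + v + w)) + q (x + u + v + w)) +
      (sq (q (x + u + v)) + p (sharp (x + u + v)) + q (x + u + v)) +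
      (sq (q (x + u + w)) + p (sharp (x + u + w)) + q (x + u + w)) +
      (sq (q (x + v + w)) + p (sharp (x + v + w)) + q (x + v + w)) +
      (sq (q (x + u)) + p (sharp (x + u)) + q (x + u)) +
      (sq (q (x + v)) + p (sharp (x + v)) + q (x + v)) + (sq (q (x + w)) + p (sharp (x + w)) + q (x + w)) +
      (sq (q x) + p (sharp x) + q x) = 0
    from by
      have e1 := sqc q hq x u v w hx hu hv hw
      have e2 := sum8 p hp x u v w hx hu hv hw
      have e3 := lin q hq x u v w hx hu hv hw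
      calc _ = (sq (q (x + u + v + w)) + sq (q (x + u + v)) + sq (q (x + u + w)) +
        sq (q (x + v + w)) + sq (q (x + u)) + sq (q (x + v)) + sq (q (x + w)) + sq (q x)) +
        (p (sharp (x + u + v + w)) + p (sharp (x + u + v)) + p (sharp (x + u + w)) +
        p (sharp (x + v + w)) + p (sharp (x + u)) + p (sharp (x + v)) + p (sharp (x + w)) + p (sharp x)) +
        (q (x + u + v + w) + q (x + u + v) + q (x + u + w) + q (x + v + w) + q (x + u) + q (x + v) + q (x + w) + q x) :=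
          by abel
      _ = 0 := by rw [e1, e2, e3, add_zero, add_zero]
  obtain ⟨s0, bxx⟩ := h.sq_zero
  have p0 := z p hp
  have q0 := z q hq
  have hA : sq (q e00) = q e00 := by
    have := cube hF h2 (fun X => sq (q X) + p (sharp X) + q X) f2c f2v e00 wA o12 (HF_e00 h4) (HF_wA h4)
      (HF_o12 h4) (o12_add h2) dA0 (dA1 h2)
    simp only [sharp_e00, p0, add_zero] at this
    exact eq_add'  this
  have hB : sq (q e11) = q e11 := by
    have := cube hF h2 (fun X => sq (q X) + p (sharp X) + q X) f2c f2v e11 wB o02 (HF_e11 h4) (HF_wB h4)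
      (HF_o02 h4) (o02_add h2) dB0 (dB1 h2)
    simp only [sharp_e11, p0, add_zero] at this
    exact eq_add'  this
  have hC : br (q e00) (q e11) = p e22 := by
    have := cube hF h2 (fun X => sq (q X) + p (sharp X) + q X) f2c f2v (e00 + e11) wC o02
      (HF_add h2 (HF_e00 h4) (HF_e11 h4)) (HF_wC h4) (HF_o02 h4) (o02_add h2) dC0 (dC1 h2)
    simp only [sharp_e01, hq _ _ (HF_e00 h4) (HF_e11 h4), h.sq_add, hA, hB] at this
    refine eq_add' ?_
    rw [← this]
    simp only [add_assoc, add_comm, add_left_comm, add_self, c2, add_zero, zero_add]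
  have hD : ∀ c : F, c ≠ 0 → br (p (e22 + o12 c)) (q e00) = 0 := by
    intro c hc
    have := cube hF h2 (fun X => sq (p X) + q (sharp X)) f1c f1v (e22 + o12 c) wD o01
      (HF_add h2 (HF_e22 h4) (HF_o12 h4 c)) (HF_wD h4) (HF_o01 h4) (o01_add h2) (dD0 c)
      (fun d => dD1 h2 c d (h3 c hc))
    simp only [sharp_Y h2 c (h3 c hc)] at this
    have h5 : q e00 = sq (p (e22 + o12 c)) := (eq_add'  this).symm
    rw [h5, h.comm, h.sq_br, bxx]
    have := h.addr (p (e22 + o12 c)) 0 0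
    rw [add_zero] at this
    exact left_eq_add.mp this
  obtain ⟨ω, hω0, hω1⟩ := exists_omega hF
  have hsum : (1 : F) + ω ≠ 0 := by
    intro h
    apply hω1
    linear_combination h - h2
  have hE : p e22 = p (e22 + o12 1) + p (e22 + o12 ω) + p (e22 + o12 (1 + ω)) := by
    rw [hp _ _ (HF_e22 h4) (HF_o12 h4 _), hp _ _ (HF_e22 h4) (HF_o12 h4 _), hp _ _ (HF_e22 h4) (HF_o12 h4 _),
      o12_add h2, hp _ _ (HF_o12 h4 _) (HF_o12 h4 _)]
    simp only [add_assoc, add_comm, add_left_comm, add_self, c2, add_zero, zero_add]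
  have hF' : br (p e22) (q e00) = 0 := by
    rw [hE, h.addl, h.addl, hD 1 one_ne_zero, hD ω hω0, hD _ hsum, add_zero, add_zero]
  have hG : p e22 = 0 := by
    rw [← hC]
    have := h.sq_br (q e00) (q e11)
    rw [hA, hC, h.comm (q e00) (p e22), hF'] at this
    rw [hC]; exact this
  have := hp0 e22 (HF_e22 h4) hG
  have := congrFun (congrFun this 2) 2
  simp [e22] at this

end kill

end Cfsg.Agent.H927.L34
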